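import Groth.Agent.Ega4late.H534.GenDiv
import Groth.Agent.Pi1A.QfUnramSch
import Groth.Agent.PerfB.UnitMono
import Groth.Prelude.Def_Pi1

/-!
# Divisibility of functions at a point

`DvdAt y α β` (`α β : Γ(Y, U)`): `α ∣ β` in the local ring at `y ∈ U`, `U` affine.
* `dvdAt_of_sc`: descent along a flat morphism;
* `dvdAt_of_codim_one`: on a normal locally Noetherian scheme it can be tested at the generizations of codimension one;
* `exists_of_flat`: a function on `f⁻¹ V` which is a quotient of functions on `V` comes from `V`.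
-/

set_option autoImplicit false
universe u

open CategoryTheory CategoryTheory.Limits AlgebraicGeometry Opposite TopologicalSpace

namespace Groth.Agent.Ega4late.H534.CodimOne

open FibApp GenDiv Groth.Agent.Fdesc.LocGen

variable {X Y : Scheme.{u}} {f : X ⟶ Y}

/-- `α` divides `β` at the point `y`. -/
def DvdAt {U : Y.Opens} (y : Y) (α β : Γ(Y, U)) : Prop :=
  ∃ s : Γ(Y, U), y ∈ Y.basicOpen s ∧ α ∣ s * β

theorem dvdAt_iff_germ {U : Y.Opens} (hU : IsAffineOpen U) {y : Y} (hy : y ∈ U) (α β : Γ(Y, U)) :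
    DvdAt y α β ↔ Y.presheaf.germ U y hy β ∈ Ideal.span {Y.presheaf.germ U y hy α} := by
  let _ := Y.presheaf.algebra_section_stalk ⟨y, hy⟩
  have hloc := hU.isLocalization_stalk ⟨y, hy⟩
  have h1 : Ideal.span {Y.presheaf.germ U y hy α} =
      (Ideal.span {α}).map (algebraMap Γ(Y, U) (Y.presheaf.stalk y)) := by
    rw [Ideal.map_span, Set.image_singleton]
    rfl
  rw [h1]
  have h2 := IsLocalization.algebraMap_mem_map_algebraMap_iff
    (hU.primeIdealOf ⟨y, hy⟩).asIdeal.primeCompl (Y.presheaf.stalk y) (Ideal.span {α}) β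
  refine Iff.trans ?_ h2.symm
  constructor
  · rintro ⟨s, hs, hd⟩
    exact ⟨s, (notMem_pt_iff hU hy s).mpr hs, Ideal.mem_span_singleton.mpr hd⟩
  · rintro ⟨s, hs, hd⟩
    exact ⟨s, (notMem_pt_iff hU hy s).mp hs, Ideal.mem_span_singleton.mp hd⟩

theorem germ_sc {U : Y.Opens} {W : X.Opens} (e : W ≤ f ⁻¹ᵁ U) {x : X} (hx : x ∈ W) (a : Γ(Y, U)) :
    X.presheaf.germ W x hx (sc f e a) = f.stalkMap x (Y.presheaf.germ U (f x) (e hx) a) := by
  have h1 := Scheme.Hom.germ_stalkMap_apply f U x (e hx) a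
  rw [h1]
  have h2 : sc f e a = ores e (f.app U a) := by
    rw [← sc_app, ores_sc]
  rw [h2]
  exact TopCat.Presheaf.germ_res_apply X.presheaf (homOfLE e) x hx _

theorem mem_span_of_stalkMap [Flat f] (x : X) {α β : Y.presheaf.stalk (f x)} {v : X.presheaf.stalk x}
    (h : f.stalkMap x β = f.stalkMap x α * v) : β ∈ Ideal.span {α} := by
  algebraize [(f.stalkMap x).hom]
  have hff : Module.FaithfullyFlat (Y.presheaf.stalk (f x)) (X.presheaf.stalk x) :=
    @Module.FaithfullyFlat.of_flat_of_isLocalHom _ _ _ _ _ _ _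
      (Flat.stalkMap f x) (f.toLRSHom.prop x)
  have h1 := Ideal.comap_map_eq_self_of_faithfullyFlat (B := X.presheaf.stalk x) (Ideal.span {α})
  rw [← h1, Ideal.mem_comap, Ideal.map_span, Set.image_singleton, Ideal.mem_span_singleton]
  exact ⟨v, h⟩

theorem dvdAt_of_sc [Flat f] {U : Y.Opens} (hU : IsAffineOpen U) {W : X.Opens} (e : W ≤ f ⁻¹ᵁ U) {x : X}
    (hx : x ∈ W) {α β : Γ(Y, U)} {v : Γ(X, W)} (h : sc f e β = sc f e α * v) : DvdAt (f x) α β := by
  rw [dvdAt_iff_germ hU (e hx)]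
  refine mem_span_of_stalkMap (f := f) x (v := X.presheaf.germ W x hx v) ?_
  rw [← germ_sc, ← germ_sc, h, map_mul]

/-- On a normal locally Noetherian scheme divisibility can be tested in codimension one. -/
theorem dvdAt_of_codim_one [IsLocallyNoetherian Y] (hY : Pi1.IsNormalScheme Y) {U : Y.Opens}
    (hU : IsAffineOpen U) {y : Y} (hy : y ∈ U) {α β : Γ(Y, U)} (hα : Y.presheaf.germ U y hy α ≠ 0)
    (h : ∀ y₁ ∈ U, y₁ ⤳ y → ringKrullDim (Y.presheaf.stalk y₁) = 1 → DvdAt y₁ α β) : DvdAt y α β := by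
  obtain ⟨hdom, hint⟩ := hY y
  by_contra hcon
  rw [dvdAt_iff_germ hU hy] at hcon
  obtain ⟨P, hP, -, hdvr, hPs⟩ := Etalg.NormalDvr.exists_dvr_prime_of_notMem_span _ hα hcon
  let _ := Y.presheaf.algebra_section_stalk ⟨y, hy⟩
  have hloc := hU.isLocalization_stalk ⟨y, hy⟩
  set p₁ : Ideal Γ(Y, U) := P.comap (algebraMap Γ(Y, U) (Y.presheaf.stalk y)) with hp₁
  have hp₁p : p₁.IsPrime := hP.comap _
  let z : PrimeSpectrum Γ(Y, U) := ⟨p₁, hp₁p⟩
  have hzU := Pi1A.QfUnramSch.fromSpec_mem hU z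
  have hpz : hU.primeIdealOf ⟨hU.fromSpec z, hzU⟩ = z :=
    Pi1A.QfUnramSch.primeIdealOf_fromSpec hU z hzU
  have hle : p₁ ≤ (hU.primeIdealOf ⟨y, hy⟩).asIdeal := by
    intro a ha
    by_contra hna
    have h1 : IsUnit (algebraMap Γ(Y, U) (Y.presheaf.stalk y) a) :=
      IsLocalization.map_units (M := (hU.primeIdealOf ⟨y, hy⟩).asIdeal.primeCompl)
        (Y.presheaf.stalk y) ⟨a, hna⟩
    exact hP.ne_top (Ideal.eq_top_of_isUnit_mem _ ha h1)
  have hspec : hU.fromSpec z ⤳ y := by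
    have h1 : z ⤳ hU.primeIdealOf ⟨y, hy⟩ := (PrimeSpectrum.le_iff_specializes _ _).mp hle
    have h2 := h1.map hU.fromSpec.continuous
    rwa [hU.fromSpec_primeIdealOf] at h2
  have hdim : ringKrullDim (Y.presheaf.stalk (hU.fromSpec z)) = 1 := by
    let _ := Y.presheaf.algebra_section_stalk ⟨hU.fromSpec z, hzU⟩
    have hloc' := hU.isLocalization_stalk ⟨hU.fromSpec z, hzU⟩
    have h1 := IsLocalization.AtPrime.ringKrullDim_eq_height
      (hU.primeIdealOf ⟨hU.fromSpec z, hzU⟩).asIdeal (Y.presheaf.stalk (hU.fromSpec z))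
    rw [h1, hpz]
    change ((p₁.height : ℕ∞) : WithBot ℕ∞) = 1
    have h2 := IsLocalization.height_under (hU.primeIdealOf ⟨y, hy⟩).asIdeal.primeCompl P
    have h3 : p₁ = P.under Γ(Y, U) := rfl
    rw [h3, h2, Etalg.NormalDvr.height_eq_one_of_dvr _ P hdvr]
    rfl
  obtain ⟨s, hs, hd⟩ := h _ hzU hspec hdim
  rw [← notMem_pt_iff hU hzU, pt, hpz] at hs
  apply hs
  change algebraMap Γ(Y, U) (Y.presheaf.stalk y) s ∈ P
  apply hPs
  obtain ⟨c, hc⟩ := hd
  rw [Ideal.mem_span_singleton]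
  refine ⟨Y.presheaf.germ U y hy c, ?_⟩
  rw [← map_mul, ← hc, map_mul]
  rfl

/-- Divisibility everywhere implies divisibility. -/
theorem dvd_of_dvdAt {U : Y.Opens} (hU : IsAffineOpen U) {α β : Γ(Y, U)} (h : ∀ y ∈ U, DvdAt y α β) :
    α ∣ β := by
  let I : Ideal Γ(Y, U) := (Ideal.span {α}).colon {β}
  have hI : ∀ s, s ∈ I ↔ α ∣ s * β := by
    intro s
    rw [Submodule.mem_colon_singleton, smul_eq_mul, Ideal.mem_span_singleton]
  by_contra hcon
  have hne : I ≠ ⊤ := by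
    intro hI'
    apply hcon
    have : (1 : Γ(Y, U)) ∈ I := hI' ▸ trivial
    rw [hI, one_mul] at this
    exact this
  obtain ⟨M, hM, hIM⟩ := Ideal.exists_le_maximal I hne
  let z : PrimeSpectrum Γ(Y, U) := ⟨M, hM.isPrime⟩
  have hzU := Pi1A.QfUnramSch.fromSpec_mem hU z
  have hpz : hU.primeIdealOf ⟨hU.fromSpec z, hzU⟩ = z :=
    Pi1A.QfUnramSch.primeIdealOf_fromSpec hU z hzU
  obtain ⟨s, hs, hd⟩ := h _ hzU
  rw [← notMem_pt_iff hU hzU, pt, hpz] at hs
  exact hs (hIM ((hI s).mpr hd))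

/-- A function on `f⁻¹ V` which is a fraction of functions on the integral affine `V` comes from `V`. -/
theorem exists_of_flat [Flat f] [Surjective f] {V : Y.Opens} {η : Y} (hV : GP V η) {α β : Γ(Y, V)}
    (hα : α ≠ 0) {h : Γ(X, f ⁻¹ᵁ V)} (hh : f.app V α * h = f.app V β) : ∃ c, f.app V c = h := by
  have hd : α ∣ β := by
    apply dvd_of_dvdAt hV.aff
    intro y hy
    obtain ⟨x, rfl⟩ := f.surjective y
    refine dvdAt_of_sc hV.aff (le_refl (f ⁻¹ᵁ V)) hy (v := h) ?_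
    rw [sc_app, sc_app, hh]
  obtain ⟨c, rfl⟩ := hd
  refine ⟨c, ?_⟩
  apply hV.mul_left_cancel (le_refl (f ⁻¹ᵁ V)) hα
  rw [sc_app, hh, map_mul]

end Groth.Agent.Ega4late.H534.CodimOne
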