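import Groth.Agent.Ega4late.H534.FlatDiv
import Groth.Agent.Ega1.LocNoethNhd
import Mathlib.AlgebraicGeometry.Fiber
import Mathlib.AlgebraicGeometry.Morphisms.Flat

/-!
# Functions on the fibres of a flat morphism over affine opens

Let `U ∋ y` be an affine open of `Y`, `W ≤ f⁻¹ U` an affine open of `X`, `p = pt hU hy ⊂ Γ(Y, U)` the prime of `y`.
* `fiberι_app_eq_zero_iff`: for `f` flat the kernel of `Γ(X, W) → Γ(X_y, W ∩ X_y)` is `p Γ(X, W)`;
* `exists_fraction`: every element of `Γ(X_y, W ∩ X_y)` is a fraction `b / s`, `s ∉ p`.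
-/

set_option autoImplicit false
universe u

open CategoryTheory CategoryTheory.Limits AlgebraicGeometry Opposite TopologicalSpace TensorProduct

namespace Groth.Agent.Ega4late.H534.FibApp

variable {X Y : Scheme.{u}} (f : X ⟶ Y)

/-- The prime ideal of a point in an affine open. -/
noncomputable abbrev pt {U : Y.Opens} (hU : IsAffineOpen U) {y : Y} (hy : y ∈ U) : Ideal Γ(Y, U) :=
  (hU.primeIdealOf ⟨y, hy⟩).asIdeal

theorem notMem_pt_iff {U : Y.Opens} (hU : IsAffineOpen U) {y : Y} (hy : y ∈ U) (a : Γ(Y, U)) :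
    a ∉ pt hU hy ↔ y ∈ Y.basicOpen a :=
  (Ega1.LocNoethNhd.mem_basicOpen_iff_notMem_primeIdealOf hU ⟨y, hy⟩ a).symm

theorem notMem_pt_iff_isUnit {U : Y.Opens} (hU : IsAffineOpen U) {y : Y} (hy : y ∈ U) (a : Γ(Y, U)) :
    a ∉ pt hU hy ↔ IsUnit (Y.presheaf.germ U y hy a) := by
  rw [notMem_pt_iff, Scheme.mem_basicOpen _ _ _ hy]

theorem appLE_mem_pt_iff {U : Y.Opens} (hU : IsAffineOpen U) {W : X.Opens} (hW : IsAffineOpen W)
    (e : W ≤ f ⁻¹ᵁ U) {x : X} (hx : x ∈ W) (a : Γ(Y, U)) :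
    f.appLE U W e a ∈ pt hW hx ↔ a ∈ pt hU (e hx) := by
  have := IsAffineOpen.comap_primeIdealOf_appLE U hU W hW e hx
  change _ ↔ a ∈ (hU.primeIdealOf ⟨f x, e hx⟩).asIdeal
  rw [← this]
  rfl

theorem top_le {U : Y.Opens} {y : Y} (hy : y ∈ U) :
    (⊤ : (Spec (Y.residueField y)).Opens) ≤ (Y.fromSpecResidueField y) ⁻¹ᵁ U := by
  intro z _
  have : Y.fromSpecResidueField y z = y := Scheme.fromSpecResidueField_apply y z
  change Y.fromSpecResidueField y z ∈ U
  rw [this]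
  exact hy

/-- Evaluation at a point. -/
theorem residue_appLE {U : Y.Opens} {y : Y} (hy : y ∈ U) (a : Γ(Y, U)) :
    (Y.fromSpecResidueField y).appLE U ⊤ (top_le hy) a =
      (Scheme.ΓSpecIso (Y.residueField y)).inv (Y.residue y (Y.presheaf.germ U y hy a)) := by
  have hle : (⊤ : (Spec (Y.presheaf.stalk y)).Opens) ≤ (Y.fromSpecStalk y) ⁻¹ᵁ U := by
    intro z _
    have h := Y.range_fromSpecStalk (x := y)
    have h2 : Y.fromSpecStalk y z ∈ Set.range (Y.fromSpecStalk y) := ⟨z, rfl⟩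
    rw [h] at h2
    exact h2.mem_open U.2 hy
  have hA : (Y.fromSpecStalk y).appLE U ⊤ hle = Y.presheaf.germ U y hy ≫
      (Scheme.ΓSpecIso (Y.presheaf.stalk y)).inv := by
    rw [Scheme.Hom.appLE, Scheme.fromSpecStalk_app hy]
    simp only [Category.assoc]
    rw [← Functor.map_comp]
    have h3 : ((homOfLE (le_top : (Y.fromSpecStalk y) ⁻¹ᵁ U ≤ ⊤)).op ≫ (homOfLE hle).op :
      op (⊤ : (Spec (Y.presheaf.stalk y)).Opens) ⟶ op ⊤) = 𝟙 _ := Subsingleton.elim _ _
    rw [h3, CategoryTheory.Functor.map_id, Category.comp_id]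
  have hB : (Spec.map (Y.residue y)).appLE ⊤ ⊤ le_top = (Spec.map (Y.residue y)).appTop := by
    rw [Scheme.Hom.appTop, Scheme.Hom.app_eq_appLE]
    rfl
  have key : ∀ (g : Spec (Y.residueField y) ⟶ Y) (_ : g = Spec.map (Y.residue y) ≫ Y.fromSpecStalk y)
      (e : ⊤ ≤ g ⁻¹ᵁ U), g.appLE U ⊤ e =
      Y.presheaf.germ U y hy ≫ Y.residue y ≫ (Scheme.ΓSpecIso (Y.residueField y)).inv := by
    rintro g rfl e
    rw [← Scheme.Hom.appLE_comp_appLE (V := ⊤) (e₁ := hle) (e₂ := le_top), hA, hB, Category.assoc]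
    congr 1
    exact (Scheme.ΓSpecIso_inv_naturality (Y.residue y)).symm
  exact congr($(key (Y.fromSpecResidueField y) rfl (top_le hy)) a)

theorem residue_appLE_eq_zero_iff {U : Y.Opens} (hU : IsAffineOpen U) {y : Y} (hy : y ∈ U) (a : Γ(Y, U)) :
    (Y.fromSpecResidueField y).appLE U ⊤ (top_le hy) a = 0 ↔ a ∈ pt hU hy := by
  rw [residue_appLE]
  have hinj : Function.Injective (Scheme.ΓSpecIso (Y.residueField y)).inv :=
    (ConcreteCategory.bijective_of_isIso _).1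
  rw [← not_iff_not, notMem_pt_iff_isUnit, ← Ne, map_ne_zero_iff _ hinj]
  change IsLocalRing.residue _ _ ≠ 0 ↔ _
  rw [IsLocalRing.residue_ne_zero_iff_isUnit]

theorem exists_residue_fraction {U : Y.Opens} (hU : IsAffineOpen U) {y : Y} (hy : y ∈ U)
    (z : Γ(Spec (Y.residueField y), ⊤)) :
    ∃ a s : Γ(Y, U), s ∉ pt hU hy ∧ (Y.fromSpecResidueField y).appLE U ⊤ (top_le hy) s * z =
      (Y.fromSpecResidueField y).appLE U ⊤ (top_le hy) a := by
  obtain ⟨w, rfl⟩ := (ConcreteCategory.bijective_of_isIso (Scheme.ΓSpecIso (Y.residueField y)).inv).2 z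
  obtain ⟨v, rfl⟩ := Y.residue_surjective y w
  let _ := Y.presheaf.algebra_section_stalk ⟨y, hy⟩
  have hloc := hU.isLocalization_stalk ⟨y, hy⟩
  obtain ⟨⟨a, s⟩, has⟩ := IsLocalization.surj (hU.primeIdealOf ⟨y, hy⟩).asIdeal.primeCompl v
  refine ⟨a, s, s.2, ?_⟩
  rw [residue_appLE, residue_appLE, ← map_mul, ← map_mul]
  congr 2
  rw [mul_comm]
  exact has

/-- The square of rings of functions over affine opens. -/
theorem isPushout {U : Y.Opens} (hU : IsAffineOpen U) {y : Y} (hy : y ∈ U) {W : X.Opens}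
    (hW : IsAffineOpen W) (e : W ≤ f ⁻¹ᵁ U) :
    ∃ γ, IsPushout (f.appLE U W e) ((Y.fromSpecResidueField y).appLE U ⊤ (top_le hy))
      ((f.fiberι y).app W) γ := by
  have H : IsPullback (f.fiberι y) (f.fiberToSpecResidueField y) f (Y.fromSpecResidueField y) :=
    IsPullback.of_hasPullback f (Y.fromSpecResidueField y)
  have hUY : (f.fiberι y) ⁻¹ᵁ W = (f.fiberι y) ⁻¹ᵁ W ⊓ (f.fiberToSpecResidueField y) ⁻¹ᵁ ⊤ := by
    rw [Scheme.Hom.preimage_top, inf_top_eq]
  have h1 := isIso_pushoutSection_of_isAffineOpen H (top_le hy) e hUY hU (isAffineOpen_top _) hW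
  have h2 := (isIso_pushoutSection_iff H (top_le hy) e hUY).mp h1
  rw [Scheme.Hom.app_eq_appLE]
  exact ⟨_, h2⟩

theorem exists_baseChange {A B K C : CommRingCat.{u}} {φ : A ⟶ B} {κ : A ⟶ K} {ι : B ⟶ C} {γ : K ⟶ C}
    (h : IsPushout φ κ ι γ) :
    letI := φ.hom.toAlgebra
    letI := κ.hom.toAlgebra
    ∃ θ : B ⊗[A] K ≃+ C, ∀ b k, θ (b ⊗ₜ k) = ι b * γ k := by
  let i1 := φ.hom.toAlgebra
  let i2 := κ.hom.toAlgebra
  let i3 := ι.hom.toAlgebra
  let i4 := γ.hom.toAlgebra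
  let i5 : Algebra A C := (ι.hom.comp φ.hom).toAlgebra
  have i6 : IsScalarTower A B C := IsScalarTower.of_algebraMap_eq (fun _ => rfl)
  have i7 : IsScalarTower A K C := IsScalarTower.of_algebraMap_eq (fun a => congr($(h.w) a))
  have h1 : Algebra.IsPushout A B K C := CommRingCat.isPushout_iff_isPushout.mp h
  refine ⟨h1.out.equiv.toAddEquiv, fun b k => ?_⟩
  have h2 := h1.out.equiv_tmul b k
  exact h2

theorem fiberι_app_eq_zero_iff [Flat f] {U : Y.Opens} (hU : IsAffineOpen U) {y : Y} (hy : y ∈ U)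
    {W : X.Opens} (hW : IsAffineOpen W) (e : W ≤ f ⁻¹ᵁ U) (b : Γ(X, W)) :
    (f.fiberι y).app W b = 0 ↔ b ∈ (pt hU hy).map (f.appLE U W e).hom := by
  obtain ⟨γ, hpo⟩ := isPushout f hU hy hW e
  constructor
  · intro hb
    let i1 := (f.appLE U W e).hom.toAlgebra
    let i2 := ((Y.fromSpecResidueField y).appLE U ⊤ (top_le hy)).hom.toAlgebra
    have hfl : Module.Flat Γ(Y, U) Γ(X, W) := Scheme.Hom.flat_appLE f hU hW e
    obtain ⟨θ, hθ⟩ := exists_baseChange hpo
    have h1 : b ⊗ₜ[Γ(Y, U)] (1 : Γ(Spec (Y.residueField y), ⊤)) = 0 := by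
      apply θ.injective
      rw [hθ, map_zero, map_one, mul_one]
      exact hb
    let κ : (Γ(Y, U) ⧸ pt hU hy) →ₗ[Γ(Y, U)] Γ(Spec (Y.residueField y), ⊤) :=
      (pt hU hy).liftQ (Algebra.linearMap _ _) (by
        intro a ha
        exact (residue_appLE_eq_zero_iff hU hy a).mpr ha)
    have hκ : Function.Injective κ := LinearMap.ker_eq_bot.mp
      (Submodule.ker_liftQ_eq_bot _ _ _ fun a ha => (residue_appLE_eq_zero_iff hU hy a).mp ha)
    have h2 : Function.Injective (κ.lTensor Γ(X, W)) :=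
      Module.Flat.lTensor_preserves_injective_linearMap κ hκ
    have h3 : b ⊗ₜ[Γ(Y, U)] (1 : Γ(Y, U) ⧸ pt hU hy) = 0 := by
      apply h2
      rw [map_zero, LinearMap.lTensor_tmul]
      have : κ 1 = 1 := by
        change κ (Submodule.Quotient.mk 1) = 1
        exact map_one (algebraMap Γ(Y, U) Γ(Spec (Y.residueField y), ⊤))
      rw [this]
      exact h1
    exact (FlatDiv.tmul_one_eq_zero_iff (B := Γ(X, W)) (pt hU hy) b).mp h3
  · intro hb
    have hle : (pt hU hy).map (f.appLE U W e).hom ≤ RingHom.ker ((f.fiberι y).app W).hom := by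
      rw [Ideal.map_le_iff_le_comap]
      intro a ha
      rw [Ideal.mem_comap, RingHom.mem_ker]
      have h1 := congr($(hpo.w) a)
      rw [CommRingCat.comp_apply, CommRingCat.comp_apply, (residue_appLE_eq_zero_iff hU hy a).mpr ha,
        map_zero] at h1
      exact h1
    exact hle hb

theorem exists_fraction {U : Y.Opens} (hU : IsAffineOpen U) {y : Y} (hy : y ∈ U)
    {W : X.Opens} (hW : IsAffineOpen W) (e : W ≤ f ⁻¹ᵁ U) (z : Γ(f.fiber y, (f.fiberι y) ⁻¹ᵁ W)) :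
    ∃ (s : Γ(Y, U)) (b : Γ(X, W)), s ∉ pt hU hy ∧
      (f.fiberι y).app W (f.appLE U W e s) * z = (f.fiberι y).app W b := by
  obtain ⟨γ, hpo⟩ := isPushout f hU hy hW e
  let i1 := (f.appLE U W e).hom.toAlgebra
  let i2 := ((Y.fromSpecResidueField y).appLE U ⊤ (top_le hy)).hom.toAlgebra
  obtain ⟨θ, hθ⟩ := exists_baseChange hpo
  obtain ⟨w, rfl⟩ := θ.surjective z
  have hpp : (pt hU hy).IsPrime := (hU.primeIdealOf ⟨y, hy⟩).isPrime
  induction w with
  | zero => exact ⟨1, 0, fun h => hpp.ne_top ((Ideal.eq_top_iff_one _).mpr h), by simp⟩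
  | add x w hx hw =>
    obtain ⟨s, b, hs, hb⟩ := hx
    obtain ⟨t, c, ht, hc⟩ := hw
    refine ⟨s * t, f.appLE U W e t * b + f.appLE U W e s * c, fun h => (hpp.mem_or_mem h).elim hs ht, ?_⟩
    simp only [map_mul, map_add]
    rw [← hb, ← hc]
    ring
  | tmul b k =>
    obtain ⟨a, s, hs, hsa⟩ := exists_residue_fraction hU hy k
    refine ⟨s, b * f.appLE U W e a, hs, ?_⟩
    rw [hθ]
    have h1 : (f.fiberι y).app W (f.appLE U W e s) =
        γ ((Y.fromSpecResidueField y).appLE U ⊤ (top_le hy) s) := congr($(hpo.w) s)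
    have h2 : (f.fiberι y).app W (f.appLE U W e a) =
        γ ((Y.fromSpecResidueField y).appLE U ⊤ (top_le hy) a) := congr($(hpo.w) a)
    rw [h1, map_mul, h2, ← hsa, map_mul]
    ring

/-- Elements of the base not in the prime of `y` are units on the fibre. -/
theorem isUnit_fiberι_app {U : Y.Opens} (hU : IsAffineOpen U) {y : Y} (hy : y ∈ U)
    {W : X.Opens} (hW : IsAffineOpen W) (e : W ≤ f ⁻¹ᵁ U) {s : Γ(Y, U)} (hs : s ∉ pt hU hy) :
    IsUnit ((f.fiberι y).app W (f.appLE U W e s)) := by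
  obtain ⟨γ, hpo⟩ := isPushout f hU hy hW e
  have h1 : (f.fiberι y).app W (f.appLE U W e s) =
      γ ((Y.fromSpecResidueField y).appLE U ⊤ (top_le hy) s) := congr($(hpo.w) s)
  rw [h1]
  apply IsUnit.map
  rw [residue_appLE]
  apply IsUnit.map
  apply IsUnit.map
  exact (notMem_pt_iff_isUnit hU hy s).mp hs

end Groth.Agent.Ega4late.H534.FibApp
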