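import Groth.Agent.S2069
import Groth.Agent.Etalg.NormalDvr
import Groth.Agent.Ega4B.Zariski

/-!
# Descent of principal ideals along a flat map onto a normal Noetherian domain (one chart)

`map_comap_span`: `A` a Noetherian normal domain, `B` a flat Noetherian `A`-algebra such that `pB` is prime or
trivial for every prime `p` of height one, and `g ∈ B` dividing a nonzero element of `A`.  Then
`(gB ∩ A) B = gB`.
-/

set_option autoImplicit false
universe u

open TensorProduct

namespace Groth.Agent.Ega4late.H534.FlatDiv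

section Ass

variable {A B : Type u} [CommRing A] [CommRing B] [Algebra A B] [IsNoetherianRing A]
  [IsNoetherianRing B] [Module.Flat A B]

omit [IsNoetherianRing A] [IsNoetherianRing B] [Module.Flat A B] in
/-- `B ⊗ A/p = B/pB`. -/
theorem tmul_one_eq_zero_iff (p : Ideal A) (b : B) :
    b ⊗ₜ[A] (1 : A ⧸ p) = 0 ↔ b ∈ p.map (algebraMap A B) := by
  have hle : p ≤ LinearMap.ker (LinearMap.toSpanSingleton A
      (B ⧸ p.map (algebraMap A B) • (⊤ : Submodule B B)) (Submodule.Quotient.mk b)) := by
    intro r hr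
    simp only [LinearMap.mem_ker, LinearMap.toSpanSingleton_apply]
    rw [← Submodule.Quotient.mk_smul, Submodule.Quotient.mk_eq_zero, ← algebraMap_smul B r b]
    exact Submodule.smul_mem_smul (Ideal.mem_map_of_mem _ hr) trivial
  have h1 : (S2069.tensorQuotEquiv (S := B) (N := B) p) (b ⊗ₜ[A] (1 : A ⧸ p)) =
      Submodule.Quotient.mk b :=
    S2069.liftQ_aux (S := B) (N := B) p b hle
  rw [← (S2069.tensorQuotEquiv (S := B) (N := B) p).map_eq_zero_iff, h1,
    Submodule.Quotient.mk_eq_zero]
  simp

omit [IsNoetherianRing A] [IsNoetherianRing B] in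
/-- A nonzerodivisor on `A/p` is a nonzerodivisor on `B/pB`. -/
theorem mem_map_of_mul_mem (p : Ideal A) [hp : p.IsPrime] {a : A} (ha : a ∉ p) {b : B}
    (h : algebraMap A B a * b ∈ p.map (algebraMap A B)) : b ∈ p.map (algebraMap A B) := by
  have hinj : Function.Injective ((LinearMap.lsmul A (A ⧸ p) a).lTensor B) := by
    apply Module.Flat.lTensor_preserves_injective_linearMap
    rw [injective_iff_map_eq_zero]
    intro z hz
    obtain ⟨z, rfl⟩ := Ideal.Quotient.mk_surjective z
    rw [LinearMap.lsmul_apply, Algebra.smul_def, Ideal.Quotient.algebraMap_eq, ← map_mul,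
      Ideal.Quotient.eq_zero_iff_mem] at hz
    rw [Ideal.Quotient.eq_zero_iff_mem]
    exact (hp.mem_or_mem hz).resolve_left ha
  rw [← tmul_one_eq_zero_iff] at h ⊢
  apply hinj
  rw [map_zero, LinearMap.lTensor_tmul, LinearMap.lsmul_apply, TensorProduct.tmul_smul,
    TensorProduct.smul_tmul', Algebra.smul_def]
  exact h

/-- For a flat map the contraction of an associated prime of `B/JB` is an associated prime of `A/J`. -/
theorem comap_mem_associatedPrimes (J : Ideal A) (Q : Ideal B)
    (hQ : Q ∈ associatedPrimes B (B ⧸ J.map (algebraMap A B))) :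
    Q.comap (algebraMap A B) ∈ associatedPrimes A (A ⧸ J) := by
  have e : (B ⧸ J.map (algebraMap A B)) ≃ₗ[B]
      (B ⧸ (J.map (algebraMap A B) • (⊤ : Submodule B B))) :=
    Submodule.quotEquivOfEq _ _ (by simp)
  rw [LinearEquiv.AssociatedPrimes.eq e,
    ← LinearEquiv.AssociatedPrimes.eq (S2069.tensorQuotEquiv (S := B) (N := B) J),
    S2069.result, Set.mem_iUnion₂] at hQ
  obtain ⟨p, hp, hQ⟩ := hQ
  have hpp : p.IsPrime := hp.isPrime
  have e' : (B ⧸ p.map (algebraMap A B)) ≃ₗ[B]
      (B ⧸ (p.map (algebraMap A B) • (⊤ : Submodule B B))) :=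
    Submodule.quotEquivOfEq _ _ (by simp)
  rw [← LinearEquiv.AssociatedPrimes.eq e', Ega4B.Zariski.mem_associatedPrimes_quotient_iff] at hQ
  obtain ⟨hQp, y, hy⟩ := hQ
  have : Q.comap (algebraMap A B) = p := by
    apply le_antisymm
    · intro a ha
      by_contra hap
      have h1 := (hy _).mp ha
      have h2 := mem_map_of_mul_mem p hap h1
      apply hQp.ne_top
      rw [Ideal.eq_top_iff_one, hy, one_mul]
      exact h2
    · intro a ha
      rw [Ideal.mem_comap, hy]
      exact Ideal.mul_mem_right _ _ (Ideal.mem_map_of_mem _ ha)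
  rw [this]
  exact hp

end Ass

section Normal

variable {A : Type u} [CommRing A] [IsDomain A] [IsNoetherianRing A] [IsIntegrallyClosed A]

/-- Associated primes of nonzero principal ideals in a normal Noetherian domain. -/
theorem dvr_of_mem_associatedPrimes {a : A} (ha : a ≠ 0) (p : Ideal A) [p.IsPrime]
    (hp : p ∈ associatedPrimes A (A ⧸ Ideal.span {a})) :
    IsDiscreteValuationRing (Localization.AtPrime p) := by
  rw [Ega4B.Zariski.mem_associatedPrimes_quotient_iff] at hp
  obtain ⟨hpp, y, hy⟩ := hp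
  have hya : y ∉ Ideal.span {a} := by
    intro h
    apply hpp.ne_top
    rw [Ideal.eq_top_iff_one, hy, one_mul]
    exact h
  obtain ⟨P, hP, haP, hdvr, hPs⟩ := Etalg.NormalDvr.exists_dvr_prime_of_notMem_span A ha hya
  have hle : p ≤ P := fun s hs => hPs s ((hy s).mp hs)
  have hht : P.height = 1 := Etalg.NormalDvr.height_eq_one_of_dvr A P hdvr
  have hap : a ∈ p := (hy a).mpr (Ideal.mul_mem_right _ _ (Ideal.mem_span_singleton_self a))
  have : p = P := by
    by_contra hne
    have hlt : p < P := lt_of_le_of_ne hle hne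
    have h1 : p.height + 1 ≤ P.height := Ideal.height_add_one_le_of_lt_of_isPrime hlt
    have h2 : p.height ≠ 0 := by
      intro h0
      rw [Ideal.height_eq_zero_iff_eq_bot] at h0
      rw [h0] at hap
      exact ha hap
    have h3 : 1 ≤ p.height := Order.one_le_iff_pos.mpr (pos_iff_ne_zero.mpr h2)
    rw [hht] at h1
    have h4 : (1 : ℕ∞) + 1 ≤ 1 := (add_le_add_left h3 1).trans h1
    exact absurd h4 (by norm_num)
  subst this
  exact hdvr

omit [IsNoetherianRing A] [IsIntegrallyClosed A] in
/-- A uniformizer of a DVR localization can be taken in the ring: every nonzero element is a power of it up to units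
at `p`. -/
theorem exists_uniformizer (p : Ideal A) [p.IsPrime]
    (hdvr : IsDiscreteValuationRing (Localization.AtPrime p)) :
    ∃ π ∈ p, π ≠ 0 ∧ (∀ x ∈ p, ∃ s ∉ p, s * x ∈ Ideal.span {π}) ∧
      ∀ a : A, a ≠ 0 → ∃ (n : ℕ) (s s' : A), s ∉ p ∧ s' ∉ p ∧ s * a = s' * π ^ n := by
  set R := Localization.AtPrime p
  have hinj : Function.Injective (algebraMap A R) :=
    IsLocalization.injective R p.primeCompl_le_nonZeroDivisors
  obtain ⟨ϖ, hϖ⟩ := IsDiscreteValuationRing.exists_irreducible R
  obtain ⟨⟨π, s⟩, hπs⟩ := IsLocalization.surj p.primeCompl ϖ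
  simp only at hπs
  have hs : IsUnit (algebraMap A R s) := IsLocalization.map_units R s
  have hirr : Irreducible (algebraMap A R π) := by
    rw [← hπs]
    exact (irreducible_mul_isUnit hs).mpr hϖ
  have hπp : π ∈ p := by
    have h1 : algebraMap A R π ∈ IsLocalRing.maximalIdeal R :=
      (IsLocalRing.mem_maximalIdeal _).mpr hirr.not_isUnit
    exact (IsLocalization.AtPrime.to_map_mem_maximal_iff R p π).mp h1
  refine ⟨π, hπp, fun h => hirr.ne_zero (by rw [h, map_zero]), ?_, ?_⟩
  · intro x hx
    have h1 : algebraMap A R x ∈ Ideal.span {algebraMap A R π} := by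
      rw [← hirr.maximalIdeal_eq]
      exact (IsLocalization.AtPrime.to_map_mem_maximal_iff R p x).mpr hx
    rw [← Set.image_singleton, ← Ideal.map_span,
      IsLocalization.algebraMap_mem_map_algebraMap_iff p.primeCompl] at h1
    obtain ⟨m, hm, hmx⟩ := h1
    exact ⟨m, hm, hmx⟩
  · intro a ha
    have ha' : algebraMap A R a ≠ 0 := fun h => ha (hinj (by rw [h, map_zero]))
    obtain ⟨n, u, hu⟩ := IsDiscreteValuationRing.eq_unit_mul_pow_irreducible ha' hirr
    obtain ⟨⟨v, t⟩, hvt⟩ := IsLocalization.surj p.primeCompl (u : R)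
    simp only at hvt
    refine ⟨n, t, v, t.2, ?_, ?_⟩
    · intro hv
      have h1 : algebraMap A R v ∈ IsLocalRing.maximalIdeal R :=
        (IsLocalization.AtPrime.to_map_mem_maximal_iff R p v).mpr hv
      rw [← hvt] at h1
      have h2 : IsUnit ((u : R) * algebraMap A R t) := u.isUnit.mul (IsLocalization.map_units R t)
      exact (IsLocalRing.mem_maximalIdeal _).mp h1 h2
    · apply hinj
      rw [map_mul, hu, map_mul, map_pow, ← hvt]
      ring

end Normal

section Main

variable {A B : Type u} [CommRing A] [CommRing B] [Algebra A B] [IsDomain A] [Module.Flat A B]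

/-- A divisor of `s πᵐ` is a power of `π` up to units at `p`, when `pB` is prime. -/
theorem exists_pow_of_dvd (p : Ideal A) [hpp : p.IsPrime] {π : A} (hπ0 : π ≠ 0)
    (hπ : ∀ x ∈ p, ∃ s ∉ p, s * x ∈ Ideal.span {π})
    (hF : ∀ b b' : B, b * b' ∈ p.map (algebraMap A B) →
      b ∈ p.map (algebraMap A B) ∨ b' ∈ p.map (algebraMap A B)) (hπp : π ∈ p) (m : ℕ) :
    ∀ (g h : B) (s : A), s ∉ p → g * h = algebraMap A B (s * π ^ m) →
      ∃ (n : ℕ) (s₁ s₂ : A) (b₁ b₂ : B), s₁ ∉ p ∧ s₂ ∉ p ∧
        algebraMap A B (s₁ * π ^ n) = g * b₁ ∧ algebraMap A B s₂ * g = algebraMap A B (π ^ n) * b₂ := by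
  -- elements of `pB` are divisible by `π` up to units at `p`
  have hdiv : ∀ b ∈ p.map (algebraMap A B), ∃ s ∉ p, ∃ b' : B,
      algebraMap A B s * b = algebraMap A B π * b' := by
    intro b hb
    refine Submodule.span_induction (p := fun b _ => ∃ s ∉ p, ∃ b' : B,
      algebraMap A B s * b = algebraMap A B π * b') ?_ ?_ ?_ ?_ hb
    · rintro _ ⟨x, hx, rfl⟩
      obtain ⟨s, hs, hsx⟩ := hπ x hx
      obtain ⟨r, hr⟩ := Ideal.mem_span_singleton'.mp hsx
      exact ⟨s, hs, algebraMap A B r, by rw [← map_mul, ← hr, map_mul, mul_comm]⟩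
    · exact ⟨1, fun h => hpp.ne_top ((Ideal.eq_top_iff_one p).mpr h), 0, by simp⟩
    · rintro x y _ _ ⟨s, hs, b, hb⟩ ⟨t, ht, c, hc⟩
      refine ⟨s * t, fun h => (hpp.mem_or_mem h).elim hs ht, algebraMap A B t * b + algebraMap A B s * c, ?_⟩
      rw [map_mul]
      linear_combination (algebraMap A B t) * hb + (algebraMap A B s) * hc
    · rintro r x _ ⟨s, hs, b, hb⟩
      refine ⟨s, hs, r * b, ?_⟩
      rw [smul_eq_mul]
      linear_combination r * hb
  have hreg : ∀ b c : B, algebraMap A B π * b = algebraMap A B π * c → b = c := by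
    intro b c hbc
    have h1 : IsSMulRegular A π := by
      rw [isSMulRegular_iff_right_eq_zero_of_smul]
      intro y hy
      exact (mul_eq_zero.mp hy).resolve_left hπ0
    have h2 : IsSMulRegular B (algebraMap A B π) := h1.of_flat
    exact h2 hbc
  induction m with
  | zero =>
    intro g h s hs hgh
    exact ⟨0, s, 1, h, g, hs, fun h => hpp.ne_top ((Ideal.eq_top_iff_one p).mpr h), hgh.symm, by simp⟩
  | succ m ih =>
    intro g h s hs hgh
    have hmem : g * h ∈ p.map (algebraMap A B) := by
      rw [hgh, pow_succ, ← mul_assoc]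
      exact Ideal.mem_map_of_mem _ (Ideal.mul_mem_left _ _ hπp)
    rcases hF g h hmem with hg | hh
    · obtain ⟨t, ht, g', hg'⟩ := hdiv g hg
      have h1 : g' * h = algebraMap A B ((t * s) * π ^ m) := by
        apply hreg
        rw [← mul_assoc, ← hg', mul_assoc, hgh]
        simp only [map_mul, map_pow, pow_succ]
        ring
      obtain ⟨n, s₁, s₂, b₁, b₂, h2, h3, h4, h5⟩ := ih g' h (t * s)
        (fun h => (hpp.mem_or_mem h).elim ht hs) h1
      refine ⟨n + 1, s₁, s₂ * t, algebraMap A B t * b₁, b₂, h2,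
        fun h => (hpp.mem_or_mem h).elim h3 ht, ?_, ?_⟩
      · rw [pow_succ, ← mul_assoc, map_mul, h4]
        linear_combination (-b₁) * hg'
      · rw [pow_succ, map_mul, map_mul]
        linear_combination (algebraMap A B s₂) * hg' + (algebraMap A B π) * h5
    · obtain ⟨t, ht, h', hh'⟩ := hdiv h hh
      have h1 : g * h' = algebraMap A B ((t * s) * π ^ m) := by
        apply hreg
        have h2 : algebraMap A B π * (g * h') = g * (algebraMap A B t * h) := by rw [hh']; ring
        rw [h2, mul_left_comm, hgh]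
        simp only [map_mul, map_pow, pow_succ]
        ring
      exact ih g h' (t * s) (fun h => (hpp.mem_or_mem h).elim ht hs) h1

variable [IsNoetherianRing A] [IsIntegrallyClosed A] [IsNoetherianRing B]

/-- **One-chart descent of principal ideals.** -/
theorem map_comap_span
    (hF : ∀ p : Ideal A, p.IsPrime → p.height = 1 → ∀ b b' : B, b * b' ∈ p.map (algebraMap A B) →
      b ∈ p.map (algebraMap A B) ∨ b' ∈ p.map (algebraMap A B))
    (g : B) (a : A) (ha : a ≠ 0) (hg : g ∣ algebraMap A B a) :
    ((Ideal.span {g}).comap (algebraMap A B)).map (algebraMap A B) = Ideal.span {g} := by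
  set J := (Ideal.span {g}).comap (algebraMap A B) with hJ
  refine le_antisymm Ideal.map_comap_le ?_
  rw [Ideal.span_singleton_le_iff_mem]
  by_contra hcon
  obtain ⟨h, hgh⟩ := hg
  have hareg : ∀ b c : B, algebraMap A B a * b = algebraMap A B a * c → b = c := by
    intro b c hbc
    have h1 : IsSMulRegular A a := by
      rw [isSMulRegular_iff_right_eq_zero_of_smul]
      intro y hy
      exact (mul_eq_zero.mp hy).resolve_left ha
    have h2 : IsSMulRegular B (algebraMap A B a) := h1.of_flat
    exact h2 hbc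
  have hhreg : ∀ b c : B, b * h = c * h → b = c := by
    intro b c hbc
    apply hareg
    rw [hgh]
    linear_combination g * hbc
  -- an associated prime of `B/JB`
  have hne : (Ideal.Quotient.mk (J.map (algebraMap A B)) g) ≠ 0 := by
    rwa [Ne, Ideal.Quotient.eq_zero_iff_mem]
  obtain ⟨Q, hQ, hle⟩ := exists_le_isAssociatedPrime_of_isNoetherianRing B
    (M := B ⧸ J.map (algebraMap A B)) (Ideal.Quotient.mk (J.map (algebraMap A B)) g) hne
  have hQg : ∀ s : B, s * g ∈ J.map (algebraMap A B) → s ∈ Q := by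
    intro s hs
    apply hle
    rw [Submodule.mem_colon_singleton, Submodule.mem_bot]
    change Ideal.Quotient.mk _ (s * g) = 0
    rwa [Ideal.Quotient.eq_zero_iff_mem]
  have hp := comap_mem_associatedPrimes J Q hQ
  set p := Q.comap (algebraMap A B) with hpdef
  rw [Ega4B.Zariski.mem_associatedPrimes_quotient_iff] at hp
  obtain ⟨hpp, y, hy⟩ := hp
  have hap : a ∈ p := by
    rw [hy]
    refine Ideal.mul_mem_right _ _ ?_
    rw [hJ, Ideal.mem_comap, hgh]
    exact Ideal.mul_mem_right _ _ (Ideal.mem_span_singleton_self g)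
  -- `p` is of height one
  have hyJ : algebraMap A B y ∉ Ideal.span {g} := by
    intro h
    apply hpp.ne_top
    rw [Ideal.eq_top_iff_one, hy, one_mul]
    exact h
  have hyh : algebraMap A B y * h ∉ Ideal.span {algebraMap A B a} := by
    intro hm
    obtain ⟨r, hr⟩ := Ideal.mem_span_singleton'.mp hm
    apply hyJ
    rw [Ideal.mem_span_singleton']
    refine ⟨r, hhreg _ _ ?_⟩
    rw [← hr, hgh]
    ring
  have hne' : (Ideal.Quotient.mk (Ideal.span {algebraMap A B a}) (algebraMap A B y * h)) ≠ 0 := by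
    rwa [Ne, Ideal.Quotient.eq_zero_iff_mem]
  obtain ⟨Q', hQ', hle'⟩ := exists_le_isAssociatedPrime_of_isNoetherianRing B
    (M := B ⧸ Ideal.span {algebraMap A B a})
    (Ideal.Quotient.mk (Ideal.span {algebraMap A B a}) (algebraMap A B y * h)) hne'
  have hP := Ega4B.Zariski.comap_mem_associatedPrimes_of_flat a Q' hQ'
  set P := Q'.comap (algebraMap A B) with hPdef
  have hPp : P.IsPrime := hP.isPrime
  have hdvr := dvr_of_mem_associatedPrimes ha P hP
  have hpP : p ≤ P := by
    intro s hs
    rw [hy] at hs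
    rw [hPdef, Ideal.mem_comap]
    apply hle'
    rw [Submodule.mem_colon_singleton, Submodule.mem_bot]
    change Ideal.Quotient.mk _ (algebraMap A B s * (algebraMap A B y * h)) = 0
    rw [Ideal.Quotient.eq_zero_iff_mem, Ideal.mem_span_singleton']
    rw [hJ, Ideal.mem_comap] at hs
    obtain ⟨r, hr⟩ := Ideal.mem_span_singleton'.mp hs
    refine ⟨r, ?_⟩
    rw [hgh, ← mul_assoc (algebraMap A B s), ← map_mul, ← hr]
    ring
  have hht : P.height = 1 := Etalg.NormalDvr.height_eq_one_of_dvr A P hdvr
  have heq : p = P := by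
    by_contra hne
    have hlt : p < P := lt_of_le_of_ne hpP hne
    have h1 : p.height + 1 ≤ P.height := Ideal.height_add_one_le_of_lt_of_isPrime hlt
    have h2 : p.height ≠ 0 := by
      intro h0
      rw [Ideal.height_eq_zero_iff_eq_bot] at h0
      rw [h0] at hap
      exact ha hap
    have h3 : 1 ≤ p.height := Order.one_le_iff_pos.mpr (pos_iff_ne_zero.mpr h2)
    rw [hht] at h1
    have h4 : (1 : ℕ∞) + 1 ≤ 1 := (add_le_add_left h3 1).trans h1
    exact absurd h4 (by norm_num)
  rw [← heq] at hht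
  have hdvr' : IsDiscreteValuationRing (Localization.AtPrime p) := by
    have : ∀ (P' : Ideal A) [P'.IsPrime] (h : P' = P), IsDiscreteValuationRing (Localization.AtPrime P') := by
      intro P' _ h
      subst h
      exact hdvr
    exact this p heq
  obtain ⟨π, hπp, hπ0, hπ, hπa⟩ := exists_uniformizer p hdvr'
  obtain ⟨m, s, s', hs, hs', hsa⟩ := hπa a ha
  obtain ⟨n, s₁, s₂, b₁, b₂, h1, h2, h3, h4⟩ := exists_pow_of_dvd p hπ0 hπ
    (hF p hpp hht) hπp m g (h * algebraMap A B s) s' hs' (by
      rw [← mul_assoc, ← hgh, ← map_mul, ← hsa, mul_comm])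
  have h5 : s₁ * π ^ n ∈ J := by
    rw [hJ, Ideal.mem_comap, h3]
    exact Ideal.mul_mem_right _ _ (Ideal.mem_span_singleton_self g)
  have h6 : algebraMap A B (s₁ * s₂) * g ∈ J.map (algebraMap A B) := by
    have : algebraMap A B (s₁ * s₂) * g = algebraMap A B (s₁ * π ^ n) * b₂ := by
      rw [map_mul, map_mul]
      linear_combination (algebraMap A B s₁) * h4
    rw [this]
    exact Ideal.mul_mem_right _ _ (Ideal.mem_map_of_mem _ h5)
  have h7 : s₁ * s₂ ∈ p := hQg _ h6
  exact (hpp.mem_or_mem h7).elim h1 h2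

/-- Local form: near every prime of `B` the element `g` is associated to an element of `A`. -/
theorem exists_mul_eq (hF : ∀ p : Ideal A, p.IsPrime → p.height = 1 → ∀ b b' : B,
      b * b' ∈ p.map (algebraMap A B) → b ∈ p.map (algebraMap A B) ∨ b' ∈ p.map (algebraMap A B))
    (g : B) (a : A) (ha : a ≠ 0) (hg : g ∣ algebraMap A B a) (q : Ideal B) [hq : q.IsPrime] :
    ∃ (c : A) (b : B), c ≠ 0 ∧ b ∉ q ∧ algebraMap A B c = g * b := by
  have h1 := map_comap_span hF g a ha hg
  set J := (Ideal.span {g}).comap (algebraMap A B) with hJ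
  have h2 : g ∈ J.map (algebraMap A B) := by rw [h1]; exact Ideal.mem_span_singleton_self g
  have hareg : ∀ b c : B, g * b = g * c → b = c := by
    intro b c hbc
    obtain ⟨h, hgh⟩ := hg
    have h1 : IsSMulRegular A a := by
      rw [isSMulRegular_iff_right_eq_zero_of_smul]
      intro y hy
      exact (mul_eq_zero.mp hy).resolve_left ha
    have h2 : IsSMulRegular B (algebraMap A B a) := h1.of_flat
    apply h2
    change algebraMap A B a * b = algebraMap A B a * c
    rw [hgh]
    linear_combination h * hbc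
  by_contra hcon
  push Not at hcon
  -- every element of `JB` is `g` times an element of `q`
  have h3 : ∀ x ∈ J.map (algebraMap A B), ∃ b ∈ q, x = g * b := by
    intro x hx
    refine Submodule.span_induction (p := fun x _ => ∃ b ∈ q, x = g * b) ?_ ?_ ?_ ?_ hx
    · rintro _ ⟨c, hc, rfl⟩
      rw [hJ, SetLike.mem_coe, Ideal.mem_comap] at hc
      obtain ⟨b, hb⟩ := Ideal.mem_span_singleton'.mp hc
      refine ⟨b, ?_, by rw [← hb, mul_comm]⟩
      by_contra hbq
      by_cases hc0 : c = 0
      · rw [hc0, map_zero] at hb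
        have : b = 0 := hareg _ _ (by rw [mul_comm, hb, mul_zero])
        rw [this] at hbq
        exact hbq (zero_mem _)
      · exact hcon c b hc0 hbq (by rw [← hb, mul_comm])
    · exact ⟨0, zero_mem _, by simp⟩
    · rintro x y _ _ ⟨b, hb, rfl⟩ ⟨c, hc, rfl⟩
      exact ⟨b + c, add_mem hb hc, by ring⟩
    · rintro r x _ ⟨b, hb, rfl⟩
      exact ⟨r * b, Ideal.mul_mem_left _ _ hb, by rw [smul_eq_mul]; ring⟩
  obtain ⟨b, hb, hgb⟩ := h3 g h2
  apply hq.ne_top
  rw [Ideal.eq_top_iff_one]
  have : (1 : B) = b := hareg _ _ (by rw [mul_one]; exact hgb)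
  rwa [this]

end Main

end Groth.Agent.Ega4late.H534.FlatDiv
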