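import Groth.Agent.Ega4late.H534.FibApp
import Groth.Agent.Fdesc.LocGenPullback
import Mathlib.AlgebraicGeometry.Morphisms.UniversallyOpen

/-!
# Sections of an invertible module near the generic fibre of a flat morphism

`U` is an affine open of `Y` with `Γ(Y, U)` a domain and generic point `η` (`GP U η`).  Scalars of `Γ(Y, U)` act on
everything over `U`; they are denoted `sc f e a`.
-/

set_option autoImplicit false
universe u

open CategoryTheory CategoryTheory.Limits AlgebraicGeometry Opposite TopologicalSpace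

namespace Groth.Agent.Ega4late.H534.GenDiv

open FibApp Groth.Agent.Fdesc.LocGen

variable {X Y : Scheme.{u}} (f : X ⟶ Y)

/-- A function on `U ⊆ Y` as a function on `W ⊆ f⁻¹ U`. -/
noncomputable def sc {U : Y.Opens} {W : X.Opens} (e : W ≤ f ⁻¹ᵁ U) : Γ(Y, U) →+* Γ(X, W) :=
  (f.appLE U W e).hom

theorem ores_sc {U : Y.Opens} {W W' : X.Opens} (e : W ≤ f ⁻¹ᵁ U) (h : W' ≤ W) (a : Γ(Y, U)) :
    ores h (sc f e a) = sc f (h.trans e) a := by
  have := Scheme.Hom.appLE_map f (V := W) (U := U) e (homOfLE h).op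
  exact congr($this a)

theorem sc_ores {U U' : Y.Opens} {W : X.Opens} (h : U' ≤ U) (e : W ≤ f ⁻¹ᵁ U') (a : Γ(Y, U)) :
    sc f e (ores h a) = sc f (e.trans (f.preimage_mono h)) a := by
  have := Scheme.Hom.map_appLE f (V := W) (U := U') e (homOfLE h).op
  exact congr($this a)

theorem sc_app {U : Y.Opens} (a : Γ(Y, U)) : sc f (le_refl (f ⁻¹ᵁ U)) a = f.app U a := by
  rw [Scheme.Hom.app_eq_appLE]
  rfl

/-- `η` is the generic point of the integral affine open `U`. -/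
structure GP (U : Y.Opens) (η : Y) : Prop where
  aff : IsAffineOpen U
  mem : η ∈ U
  dom : IsDomain Γ(Y, U)
  pt_eq : pt aff mem = ⊥

variable {f}

theorem appLE_sq {P Q S T : Scheme.{u}} (i : P ⟶ Q) (k : P ⟶ S) (f : Q ⟶ T) (g : S ⟶ T) (w : i ≫ f = k ≫ g)
    (U : T.Opens) (W : Q.Opens) (V : S.Opens) (D : P.Opens) (e₁ : W ≤ f ⁻¹ᵁ U) (e₂ : D ≤ i ⁻¹ᵁ W)
    (e₃ : V ≤ g ⁻¹ᵁ U) (e₄ : D ≤ k ⁻¹ᵁ V) :
    f.appLE U W e₁ ≫ i.appLE W D e₂ = g.appLE U V e₃ ≫ k.appLE V D e₄ := by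
  have key : ∀ (a b : P ⟶ T) (_ : a = b) (e : D ≤ a ⁻¹ᵁ U) (e' : D ≤ b ⁻¹ᵁ U), a.appLE U D e = b.appLE U D e' := by
    rintro a _ rfl e e'
    rfl
  rw [Scheme.Hom.appLE_comp_appLE, Scheme.Hom.appLE_comp_appLE]
  exact key _ _ w _ _

theorem GP.isUnit {U : Y.Opens} {η : Y} (h : GP U η) {W : X.Opens} (e : W ≤ f ⁻¹ᵁ U) {s : Γ(Y, U)}
    (hs : s ≠ 0) : IsUnit ((f.fiberι η).app W (sc f e s)) := by
  have H : IsPullback (f.fiberι η) (f.fiberToSpecResidueField η) f (Y.fromSpecResidueField η) :=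
    IsPullback.of_hasPullback f (Y.fromSpecResidueField η)
  have h1 : (f.fiberι η).app W (sc f e s) =
      (f.fiberToSpecResidueField η).appLE ⊤ ((f.fiberι η) ⁻¹ᵁ W) le_top
        ((Y.fromSpecResidueField η).appLE U ⊤ (top_le h.mem) s) := by
    have h2 := appLE_sq _ _ _ _ H.w U W ⊤ ((f.fiberι η) ⁻¹ᵁ W) e le_rfl (top_le h.mem) le_top
    rw [Scheme.Hom.app_eq_appLE]
    exact congr($h2 s)
  rw [h1]
  apply IsUnit.map
  rw [residue_appLE h.mem]
  apply IsUnit.map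
  apply IsUnit.map
  rw [← notMem_pt_iff_isUnit h.aff h.mem, h.pt_eq]
  exact hs

theorem ext_affine {W : X.Opens} {a b : Γ(X, W)}
    (h : ∀ (W' : X.Opens) (_ : IsAffineOpen W') (hle : W' ≤ W), ores hle a = ores hle b) : a = b := by
  refine ores_ext (ι := {W' : X.Opens // IsAffineOpen W' ∧ W' ≤ W}) (fun W' => W'.1)
    (fun W' => W'.2.2) ?_ (fun W' => h W'.1 W'.2.1 W'.2.2)
  intro y hy
  obtain ⟨W', hW', hyW', hle⟩ := exists_isAffineOpen_mem_and_subset (U := W) hy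
  exact Opens.mem_iSup.mpr ⟨⟨W', hW', hle⟩, hyW'⟩

theorem GP.injective [Flat f] {U : Y.Opens} {η : Y} (h : GP U η) {W : X.Opens} (e : W ≤ f ⁻¹ᵁ U) :
    Function.Injective ((f.fiberι η).app W) := by
  intro a b hab
  apply ext_affine
  intro W' hW' hle
  rw [← sub_eq_zero, ← map_sub]
  set c := a - b with hc
  have h1 : (f.fiberι η).app W c = 0 := by rw [hc, map_sub, hab, sub_self]
  have h2 : (f.fiberι η).app W' (ores hle c) = 0 := by
    have := ConcreteCategory.congr_hom ((f.fiberι η).naturality (homOfLE hle).op) c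
    refine (this.trans ?_)
    change ((f.fiber η).presheaf.map _) ((f.fiberι η).app W c) = 0
    rw [h1, map_zero]
  rw [fiberι_app_eq_zero_iff f h.aff h.mem hW' (hle.trans e), h.pt_eq, Ideal.map_bot] at h2
  exact h2

theorem GP.mul_left_cancel [Flat f] {U : Y.Opens} {η : Y} (h : GP U η) {W : X.Opens} (e : W ≤ f ⁻¹ᵁ U)
    {s : Γ(Y, U)} (hs : s ≠ 0) {a b : Γ(X, W)} (hab : sc f e s * a = sc f e s * b) : a = b := by
  apply h.injective e
  have h1 := congrArg ((f.fiberι η).app W) hab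
  rw [map_mul, map_mul] at h1
  exact (h.isUnit e hs).mul_left_cancel h1

variable {L : X.Modules}

section Rel

variable {η : Y} (t : Γ((Scheme.Modules.pullback (f.fiberι η)).obj L, ⊤))

/-- `a t = b m` on the generic fibre of `W`. -/
def Rel {U : Y.Opens} (a b : Γ(Y, U)) {W : X.Opens} (e : W ≤ f ⁻¹ᵁ U) (m : Γ(L, W)) : Prop :=
  (f.fiberι η).app W (sc f e a) • res _ (le_top : (f.fiberι η) ⁻¹ᵁ W ≤ ⊤) t =
    (f.fiberι η).app W (sc f e b) • pullSec (f.fiberι η) m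

variable {t}

theorem app_ores {Z Z' : Scheme.{u}} (π : Z ⟶ Z') {U V : Z'.Opens} (h : V ≤ U) (a : Γ(Z', U)) :
    π.app V (ores h a) = ores (π.preimage_mono h) (π.app U a) := by
  have := ConcreteCategory.congr_hom (π.naturality (homOfLE h).op) a
  exact this

theorem Rel.res {U : Y.Opens} {a b : Γ(Y, U)} {W : X.Opens} {e : W ≤ f ⁻¹ᵁ U} {m : Γ(L, W)}
    (h : Rel t a b e m) {W' : X.Opens} (hle : W' ≤ W) :
    Rel t a b (hle.trans e) (Fdesc.LocGen.res L hle m) := by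
  have h1 := congrArg (Fdesc.LocGen.res _ ((f.fiberι η).preimage_mono hle)) h
  rw [res_smul, res_smul, res_res, res_pullSec, ← app_ores _ hle, ← app_ores _ hle, ores_sc, ores_sc] at h1
  exact h1

theorem Rel.mul {U : Y.Opens} {a b : Γ(Y, U)} {W : X.Opens} {e : W ≤ f ⁻¹ᵁ U} {m : Γ(L, W)}
    (h : Rel t a b e m) (c : Γ(Y, U)) : Rel t (c * a) (c * b) e m := by
  change _ • _ = _ • _ at h
  change _ • _ = _ • _
  rw [map_mul, map_mul, mul_smul, h, map_mul, map_mul, mul_smul]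

/-- Cancellation. -/
theorem Rel.of_mul {U : Y.Opens} (hU : GP U η) {a b c : Γ(Y, U)} {W : X.Opens} {e : W ≤ f ⁻¹ᵁ U}
    {m : Γ(L, W)} (hc : c ≠ 0) (h : Rel t (c * a) (c * b) e m) : Rel t a b e m := by
  change _ • _ = _ • _ at h
  change _ • _ = _ • _
  rw [map_mul, map_mul, mul_smul, map_mul, map_mul, mul_smul] at h
  obtain ⟨u, hu⟩ := hU.isUnit e hc
  rw [← hu] at h
  have := congrArg (fun z => (↑u⁻¹ : Γ(f.fiber η, (f.fiberι η) ⁻¹ᵁ W)) • z) h
  simpa only [smul_smul, ← mul_assoc, Units.inv_mul, one_mul] using this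

/-- Multiply the section. -/
theorem Rel.smul {U : Y.Opens} {a b b' : Γ(Y, U)} {W : X.Opens} {e : W ≤ f ⁻¹ᵁ U} {m m' : Γ(L, W)}
    {v : Γ(X, W)} (h : Rel t a b e m) (hm : m = v • m') (hb : sc f e b * v = sc f e b') :
    Rel t a b' e m' := by
  change _ • _ = _ • _ at h
  change _ • _ = _ • _
  rw [h, hm, pullSec_smul, smul_smul, ← map_mul, hb]

/-- Two generators satisfying relations. -/
theorem Rel.compare [Flat f] {U : Y.Opens} (hU : GP U η) {a b a' b' : Γ(Y, U)} {W : X.Opens} {e : W ≤ f ⁻¹ᵁ U}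
    {m m' : Γ(L, W)} {v : Γ(X, W)} (h : Rel t a b e m) (h' : Rel t a' b' e m') (hm : IsGen m)
    (hm' : m' = v • m) : sc f e (a' * b) = sc f e (a * b') * v := by
  apply hU.injective e
  apply (hm.pullSec (f.fiberι η)).ext
  have h1 := h.mul a'
  have h2 := h'.mul a
  change _ • _ = _ • _ at h1 h2
  rw [← h1, mul_comm a' a, h2, hm', pullSec_smul, smul_smul, ← map_mul]

/-- Uniqueness of the section. -/
theorem Rel.unique [Flat f] {U : Y.Opens} (hU : GP U η) {a b : Γ(Y, U)} (hb : b ≠ 0) {W : X.Opens}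
    {e : W ≤ f ⁻¹ᵁ U} {m m' : Γ(L, W)} (h : Rel t a b e m) (h' : Rel t a b e m') (hm : IsGen m) : m' = m := by
  obtain ⟨v, hv⟩ := hm.exists_eq m'
  change _ • _ = _ • _ at h h'
  rw [h, hv, pullSec_smul, smul_smul, ← map_mul] at h'
  have h1 := hU.injective e ((hm.pullSec (f.fiberι η)).ext h')
  have h2 : v = 1 := hU.mul_left_cancel e hb (by rw [← h1, mul_one])
  rw [hv, h2, one_smul]

end Rel

end Groth.Agent.Ega4late.H534.GenDiv
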