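import Groth.Agent.Ega4late.H534.Points
import Groth.Agent.CurvesA.UfdStalk
import Groth.Agent.Picfga.LineDescent
import Mathlib.RingTheory.LocalProperties.IntegrallyClosed

/-!
# Descent of an invertible module which is trivial on the generic fibres

`exists_local`: near every point of `Y` the module has a generator which is a multiple of the generic trivialization.
`exists_transition`: the transition functions of such generators come from `Y`.
-/

set_option autoImplicit false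
universe u

open CategoryTheory CategoryTheory.Limits AlgebraicGeometry Opposite TopologicalSpace

namespace Groth.Agent.Ega4late.H534.LocalGen

open FibApp GenDiv CodimOne Points Groth.Agent.Fdesc.LocGen Groth.Agent.CurvesA.UfdStalk

variable {X Y : Scheme.{u}} {f : X ⟶ Y} {L : X.Modules}

theorem isIntegrallyClosed_section (hY : Pi1.IsNormalScheme Y) {U : Y.Opens} (hU : IsAffineOpen U)
    [IsDomain Γ(Y, U)] : IsIntegrallyClosed Γ(Y, U) := by
  apply IsIntegrallyClosed.of_localization_maximal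
  intro P hP hPm
  let z : PrimeSpectrum Γ(Y, U) := ⟨P, hPm.isPrime⟩
  have hzU := Pi1A.QfUnramSch.fromSpec_mem hU z
  have hpz : hU.primeIdealOf ⟨hU.fromSpec z, hzU⟩ = z :=
    Pi1A.QfUnramSch.primeIdealOf_fromSpec hU z hzU
  let _ := Y.presheaf.algebra_section_stalk ⟨hU.fromSpec z, hzU⟩
  have hloc := hU.isLocalization_stalk ⟨hU.fromSpec z, hzU⟩
  rw [hpz] at hloc
  have hloc' : IsLocalization.AtPrime (Y.presheaf.stalk (hU.fromSpec z)) P := hloc
  obtain ⟨h1, h2⟩ := hY (hU.fromSpec z)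
  exact IsIntegrallyClosed.of_equiv
    (IsLocalization.algEquiv P.primeCompl (Y.presheaf.stalk (hU.fromSpec z)) (Localization.AtPrime P)).toRingEquiv

theorem gp_of_genPt {U : Y.Opens} (hU : IsAffineOpen U) {η : Y} (h : GenPt U η) : GP U η := by
  have hinj := h.inj U le_rfl h.mem
  let := h.field.toField
  refine ⟨hU, h.mem, hinj.isDomain (Y.presheaf.germ U η h.mem).hom, ?_⟩
  rw [eq_bot_iff]
  intro a ha
  by_contra hne
  have h1 : Y.presheaf.germ U η h.mem a ≠ 0 := (map_ne_zero_iff _ hinj).mpr hne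
  exact (notMem_pt_iff_isUnit hU h.mem a).mpr (isUnit_iff_ne_zero.mpr h1) ha

theorem genPt_maximal {U : Y.Opens} {η : Y} (h : GenPt U η) (z : Y) (hz : z ⤳ η) : z = η :=
  (hz.antisymm (h.spec z (hz.mem_open U.2 h.mem))).eq

theorem exists_genPt_nhd [IsLocallyNoetherian Y] (hY : Pi1.IsNormalScheme Y) (y : Y) :
    ∃ (U : Y.Opens) (η : Y), y ∈ U ∧ IsAffineOpen U ∧ GenPt U η := by
  have := (hY y).1
  obtain ⟨U, hyU, hU, hdom⟩ := Ega1.LocNoethNhd.exists_domain_nhd y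
  obtain ⟨η, hη⟩ := exists_genPt hU
  exact ⟨U, η, hyU, hU, hη⟩

/-- Relations are local. -/
theorem rel_of_cover {η : Y} {t : Γ((Scheme.Modules.pullback (f.fiberι η)).obj L, ⊤)} {U : Y.Opens}
    {a b : Γ(Y, U)} {W : X.Opens} {e : W ≤ f ⁻¹ᵁ U} {m : Γ(L, W)} {ι : Type*} (V : ι → X.Opens)
    (hV : ∀ i, V i ≤ W) (hcov : W ≤ ⨆ i, V i) (h : ∀ i, Rel t a b ((hV i).trans e) (res L (hV i) m)) :
    Rel t a b e m := by
  change _ • _ = _ • _
  refine res_ext _ (fun i => (f.fiberι η) ⁻¹ᵁ (V i)) (fun i => (f.fiberι η).preimage_mono (hV i)) ?_ ?_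
  · intro w hw
    obtain ⟨i, hi⟩ := Opens.mem_iSup.mp (hcov (show f.fiberι η w ∈ W from hw))
    exact Opens.mem_iSup.mpr ⟨i, hi⟩
  · intro i
    have h1 := h i
    change _ • _ = _ • _ at h1
    rw [res_smul, res_smul, res_res, res_pullSec, ← GenDiv.app_ores _ (hV i), ← GenDiv.app_ores _ (hV i),
      ores_sc, ores_sc]
    exact h1

variable (t : ∀ η : Y, (∀ z : Y, z ⤳ η → z = η) → Γ((Scheme.Modules.pullback (f.fiberι η)).obj L, ⊤))

/-- A generator over `f⁻¹ V` which is a multiple of the generic trivialization. -/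
def Loc (V : Y.Opens) (m : Γ(L, f ⁻¹ᵁ V)) : Prop :=
  ∃ (U : Y.Opens) (η : Y) (hη : GenPt U η) (hVU : V ≤ U) (a b : Γ(Y, U)), a ≠ 0 ∧ b ≠ 0 ∧
    Rel (t η (genPt_maximal hη)) a b (f.preimage_mono hVU) m

variable {t}

theorem exists_local [IsLocallyNoetherian X] [IsLocallyNoetherian Y] [Flat f] (hY : Pi1.IsNormalScheme Y)
    (hfib : ∀ y : Y, ringKrullDim (Y.presheaf.stalk y) = 1 → IsIntegral (f.fiber y))
    (hq : Topology.IsQuotientMap f)
    (hL : PicF.IsInvertible L) (ht : ∀ η h, IsGen (t η h)) (y : Y) :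
    ∃ (V : Y.Opens) (m : Γ(L, f ⁻¹ᵁ V)), y ∈ V ∧ IsGen m ∧ Loc t V m := by
  obtain ⟨U, η, hyU, hU, hη⟩ := exists_genPt_nhd hY y
  have hG := gp_of_genPt hU hη
  have hdom := hG.dom
  have hUi := isIntegrallyClosed_section hY hU
  obtain ⟨x, rfl⟩ := hq.surjective y
  obtain ⟨a, b, ha, hb, hx⟩ := exists_gen hfib hL (ht η (genPt_maximal hη)) hG hUi hyU
  let S : Set Y := {y' | ∃ x', f x' = y' ∧ Gen (t η (genPt_maximal hη)) a b x'}
  have hS : f ⁻¹' S = {x' | Gen (t η (genPt_maximal hη)) a b x'} := by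
    ext x'
    constructor
    · rintro ⟨x'', hx'', h⟩
      exact Gen.of_eq hY hfib hL (ht η _) hG hUi hx'' ha hb h
    · intro h
      exact ⟨x', rfl, h⟩
  have hSo : IsOpen S := by
    rw [← hq.isOpen_preimage, hS]
    exact isOpen_gen a b
  let V : Y.Opens := ⟨S, hSo⟩
  have hVU : V ≤ U := by
    rintro y' ⟨x', rfl, W, e, -, hx', -⟩
    exact e hx'
  have hV : ∀ x' ∈ f ⁻¹ᵁ V, Gen (t η (genPt_maximal hη)) a b x' := by
    intro x' hx'
    have : x' ∈ f ⁻¹' S := hx'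
    rwa [hS] at this
  choose W e m hxW hm hr using fun x' : f ⁻¹ᵁ V => hV x'.1 x'.2
  -- glue
  obtain ⟨m₀, hm₀⟩ := res_glue L (V := f ⁻¹ᵁ V) (fun x' => f ⁻¹ᵁ V ⊓ W x') (fun x' => inf_le_left)
    (fun x' hx' => Opens.mem_iSup.mpr ⟨⟨x', hx'⟩, hx', hxW ⟨x', hx'⟩⟩)
    (fun x' => res L inf_le_right (m x')) (by
      intro x₁ x₂
      rw [res_res, res_res]
      exact ((hr x₂).res _).unique hG hb ((hr x₁).res _) ((hm x₂).res _))
  refine ⟨V, m₀, ⟨x, rfl, hx⟩, ?_, U, η, hη, hVU, a, b, ha, hb, ?_⟩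
  · refine IsGen.of_cover (fun x' => f ⁻¹ᵁ V ⊓ W x') (fun x' => inf_le_left)
      (fun x' hx' => Opens.mem_iSup.mpr ⟨⟨x', hx'⟩, hx', hxW ⟨x', hx'⟩⟩) (fun x' => ?_)
    rw [hm₀]
    exact (hm x').res _
  · refine rel_of_cover (fun x' => f ⁻¹ᵁ V ⊓ W x') (fun x' => inf_le_left)
      (fun x' hx' => Opens.mem_iSup.mpr ⟨⟨x', hx'⟩, hx', hxW ⟨x', hx'⟩⟩) (fun x' => ?_)
    rw [hm₀]
    exact (hr x').res _

/-- The transition functions descend. -/
theorem exists_transition [Flat f] [Surjective f] {V V' : Y.Opens} {m : Γ(L, f ⁻¹ᵁ V)}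
    {m' : Γ(L, f ⁻¹ᵁ V')} (hm' : IsGen m') (h : Loc t V m) (h' : Loc t V' m') :
    ∃ g : Γ(Y, V ⊓ V'), res L (f.preimage_mono (inf_le_left : V ⊓ V' ≤ V)) m =
      f.app (V ⊓ V') g • res L (f.preimage_mono inf_le_right) m' := by
  obtain ⟨U, η, hη, hVU, a, b, ha, hb, hr⟩ := h
  obtain ⟨U', η', hη', hVU', a', b', ha', hb', hr'⟩ := h'
  obtain ⟨v, hv⟩ := (hm'.res (f.preimage_mono (inf_le_right : V ⊓ V' ≤ V'))).exists_eq
    (res L (f.preimage_mono (inf_le_left : V ⊓ V' ≤ V)) m)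
  suffices hg : ∃ g : Γ(Y, V ⊓ V'), f.app (V ⊓ V') g = v by
    obtain ⟨g, rfl⟩ := hg
    exact ⟨g, hv⟩
  -- local statement
  have key : ∀ y : (V ⊓ V' : Y.Opens), ∃ (D : Y.Opens) (hD : D ≤ V ⊓ V') (c : Γ(Y, D)), y.1 ∈ D ∧
      f.app D c = ores (f.preimage_mono hD) v := by
    rintro ⟨y, hy⟩
    obtain ⟨D, hDa, hyD, hD⟩ := exists_isAffineOpen_mem_and_subset (x := y) (U := V ⊓ V') hy
    have hDV : D ≤ V := hD.trans inf_le_left
    have hDV' : D ≤ V' := hD.trans inf_le_right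
    have hηD := hη.mem_of_mem (hDV.trans hVU) hyD
    have hηD' := hη'.mem_of_mem (hDV'.trans hVU') hyD
    obtain rfl : η = η' := ((hη.spec η' (hVU (hDV hηD'))).antisymm (hη'.spec η (hVU' (hDV' hηD)))).eq
    have hGD := gp_of_genPt hDa (hη.mono (hDV.trans hVU) hηD)
    have hdom := hGD.dom
    have hne : ∀ {W : Y.Opens} (hW : GenPt W η) (hDW : D ≤ W) {c : Γ(Y, W)} (_ : c ≠ 0), ores hDW c ≠ 0 := by
      intro W hW hDW c hc h0
      apply hc
      apply hW.inj W le_rfl hW.mem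
      rw [map_zero, ← TopCat.Presheaf.germ_res_apply Y.presheaf (homOfLE hDW) η hηD c]
      have h1 := congrArg (Y.presheaf.germ D η hηD) h0
      rw [map_zero] at h1
      exact h1
    have hrel : ∀ {W W' : Y.Opens} {c d : Γ(Y, W)} (hWW' : W' ≤ W) (hDW' : D ≤ W') {n : Γ(L, f ⁻¹ᵁ W')}
        {τ : Γ((Scheme.Modules.pullback (f.fiberι η)).obj L, ⊤)}
        (_ : Rel τ c d (f.preimage_mono hWW') n), Rel τ (ores (hDW'.trans hWW') c) (ores (hDW'.trans hWW') d)
          (le_refl (f ⁻¹ᵁ D)) (res L (f.preimage_mono hDW') n) := by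
      intro W W' c d hWW' hDW' n τ hrel
      have h1 := hrel.res (f.preimage_mono hDW')
      change _ • _ = _ • _ at h1
      change _ • _ = _ • _
      rw [sc_ores, sc_ores]
      exact h1
    have hr1 := hrel hVU hDV hr
    have hr2 := hrel hVU' hDV' hr'
    have hvD : res L (f.preimage_mono hDV) m = ores (f.preimage_mono hD) v • res L (f.preimage_mono hDV') m' := by
      have h1 := congrArg (res L (f.preimage_mono hD)) hv
      rw [res_smul, res_res, res_res] at h1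
      exact h1
    have hcmp := hr2.compare hGD hr1 (hm'.res _) hvD
    rw [sc_app, sc_app] at hcmp
    obtain ⟨c, hc⟩ := exists_of_flat hGD (mul_ne_zero (hne hη' (hDV'.trans hVU') ha')
      (hne hη (hDV.trans hVU) hb)) hcmp.symm
    exact ⟨D, hD, c, hyD, hc⟩
  choose D hD c hyD hc using key
  have hinj : ∀ W : Y.Opens, Function.Injective (f.app W) := PerfB.UnitMono.app_injective f
  obtain ⟨g, hg⟩ := ores_glue (X := Y) (V := V ⊓ V') D hD
    (fun y hy => Opens.mem_iSup.mpr ⟨⟨y, hy⟩, hyD ⟨y, hy⟩⟩) c (by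
      intro y₁ y₂
      apply hinj
      rw [GenDiv.app_ores, GenDiv.app_ores, hc, hc, ores_ores, ores_ores])
  refine ⟨g, ?_⟩
  refine ores_ext (fun y => f ⁻¹ᵁ (D y)) (fun y => f.preimage_mono (hD y)) ?_ ?_
  · intro x hx
    exact Opens.mem_iSup.mpr ⟨⟨f x, hx⟩, hyD ⟨f x, hx⟩⟩
  · intro y
    rw [← GenDiv.app_ores f (hD y), hg, hc]

end Groth.Agent.Ega4late.H534.LocalGen
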