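import Groth.Agent.Ega4late.H534.CodimOne
import Mathlib.AlgebraicGeometry.Geometrically.Integral

/-!
# The set of points at which a multiple of a generic trivialization generates

`t` is a generator of `L` over the fibre of `f` over the generic point `η` of the integral affine open `U ⊆ Y`, and
`a, b ∈ Γ(Y, U)` are nonzero.  `Gen t a b x`: the rational section `(a / b) t` generates `L` near `x`.
-/

set_option autoImplicit false
universe u

open CategoryTheory CategoryTheory.Limits AlgebraicGeometry Opposite TopologicalSpace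

namespace Groth.Agent.Ega4late.H534.Points

open FibApp GenDiv CodimOne Groth.Agent.Fdesc.LocGen

variable {X Y : Scheme.{u}} {f : X ⟶ Y} {L : X.Modules} {η : Y}
  (t : Γ((Scheme.Modules.pullback (f.fiberι η)).obj L, ⊤))

/-- `(a / b) t` generates `L` near `x`. -/
def Gen {U : Y.Opens} (a b : Γ(Y, U)) (x : X) : Prop :=
  ∃ (W : X.Opens) (e : W ≤ f ⁻¹ᵁ U) (m : Γ(L, W)), x ∈ W ∧ IsGen m ∧ Rel t a b e m

variable {t}

theorem isOpen_gen {U : Y.Opens} (a b : Γ(Y, U)) : IsOpen {x | Gen t a b x} := by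
  rw [isOpen_iff_forall_mem_open]
  rintro x ⟨W, e, m, hx, hm, hr⟩
  exact ⟨W, fun x' hx' => ⟨W, e, m, hx', hm, hr⟩, W.2, hx⟩

/-- Two fractions generating at the same point. -/
theorem Gen.dvdAt [Flat f] {U : Y.Opens} (hU : GP U η) {a b a' b' : Γ(Y, U)} {x : X} (h : Gen t a b x)
    (h' : Gen t a' b' x) : DvdAt (f x) (a * b') (a' * b) := by
  obtain ⟨W, e, m, hx, hm, hr⟩ := h
  obtain ⟨W', e', m', hx', hm', hr'⟩ := h'
  have hr1 := hr.res (inf_le_left : W ⊓ W' ≤ W)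
  have hr2 := hr'.res (inf_le_right : W ⊓ W' ≤ W')
  obtain ⟨v, hv⟩ := (hm.res (inf_le_left : W ⊓ W' ≤ W)).exists_eq (res L (inf_le_right : W ⊓ W' ≤ W') m')
  have h1 := hr1.compare hU hr2 (hm.res _) hv
  exact dvdAt_of_sc hU.aff _ (show x ∈ W ⊓ W' from ⟨hx, hx'⟩) h1

theorem germ_ne_zero {U : Y.Opens} (hU : GP U η) {y : Y} (hy : y ∈ U)
    {α : Γ(Y, U)} (hα : α ≠ 0) : Y.presheaf.germ U y hy α ≠ 0 := by
  have := hU.dom
  let _ := Y.presheaf.algebra_section_stalk ⟨y, hy⟩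
  have hloc := hU.aff.isLocalization_stalk ⟨y, hy⟩
  have hinj : Function.Injective (algebraMap Γ(Y, U) (Y.presheaf.stalk y)) :=
    IsLocalization.injective _ (hU.aff.primeIdealOf ⟨y, hy⟩).asIdeal.primeCompl_le_nonZeroDivisors
  exact (map_ne_zero_iff _ hinj).mpr hα

/-- Existence: near each point some multiple of `t` generates. -/
theorem exists_gen [IsLocallyNoetherian X] [IsLocallyNoetherian Y] [Flat f]
    (hfib : ∀ y : Y, ringKrullDim (Y.presheaf.stalk y) = 1 → IsIntegral (f.fiber y))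
    (hL : PicF.IsInvertible L) (ht : IsGen t) {U : Y.Opens} (hU : GP U η) (hUi : IsIntegrallyClosed Γ(Y, U))
    {x : X} (hx : f x ∈ U) :
    ∃ a b : Γ(Y, U), a ≠ 0 ∧ b ≠ 0 ∧ Gen t a b x := by
  have hdom := hU.dom
  obtain ⟨W₀, m₀, hxW₀, hm₀⟩ := (isInvertible_iff L).mp hL x
  obtain ⟨W, hW, hxW, hle⟩ := exists_isAffineOpen_mem_and_subset (x := x) (U := W₀ ⊓ f ⁻¹ᵁ U) ⟨hxW₀, hx⟩
  have e : W ≤ f ⁻¹ᵁ U := fun z hz => (hle hz).2
  have hWW₀ : W ≤ W₀ := fun z hz => (hle hz).1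
  set m := res L hWW₀ m₀ with hmdef
  have hm : IsGen m := hm₀.res hWW₀
  let i1 := (f.appLE U W e).hom.toAlgebra
  have hfl : Module.Flat Γ(Y, U) Γ(X, W) := Scheme.Hom.flat_appLE f hU.aff hW e
  have hNA : IsNoetherianRing Γ(Y, U) := IsLocallyNoetherian.component_noetherian ⟨U, hU.aff⟩
  have hNB : IsNoetherianRing Γ(X, W) := IsLocallyNoetherian.component_noetherian ⟨W, hW⟩
  -- the coefficient of `t`
  obtain ⟨u, hu, htu⟩ := (hm.pullSec (f.fiberι η)).exists_unit (ht.res (le_top : (f.fiberι η) ⁻¹ᵁ W ≤ ⊤))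
  obtain ⟨a, g, ha, hag⟩ := exists_fraction f hU.aff hU.mem hW e u
  rw [hU.pt_eq] at ha
  have ha0 : a ≠ 0 := ha
  -- `g` divides a nonzero element of the base
  obtain ⟨v, hv⟩ := (show IsUnit ((f.fiberι η).app W g) by
    rw [← hag]
    exact (hU.isUnit e ha0).mul hu).exists_right_inv
  obtain ⟨a', h', ha', hah'⟩ := exists_fraction f hU.aff hU.mem hW e v
  rw [hU.pt_eq] at ha'
  have ha'0 : a' ≠ 0 := ha'
  have hdiv : g ∣ algebraMap Γ(Y, U) Γ(X, W) a' := by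
    refine ⟨h', ?_⟩
    apply hU.injective e
    rw [map_mul, ← hah']
    rw [mul_left_comm, hv, mul_one]
    rfl
  -- the fibres in codimension one
  have hF : ∀ p : Ideal Γ(Y, U), p.IsPrime → p.height = 1 → ∀ b b' : Γ(X, W),
      b * b' ∈ p.map (algebraMap Γ(Y, U) Γ(X, W)) →
      b ∈ p.map (algebraMap Γ(Y, U) Γ(X, W)) ∨ b' ∈ p.map (algebraMap Γ(Y, U) Γ(X, W)) := by
    intro p hp hht b b' hbb'
    let z : PrimeSpectrum Γ(Y, U) := ⟨p, hp⟩
    have hzU := Pi1A.QfUnramSch.fromSpec_mem hU.aff z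
    have hpz : hU.aff.primeIdealOf ⟨hU.aff.fromSpec z, hzU⟩ = z :=
      Pi1A.QfUnramSch.primeIdealOf_fromSpec hU.aff z hzU
    have hdim : ringKrullDim (Y.presheaf.stalk (hU.aff.fromSpec z)) = 1 := by
      let _ := Y.presheaf.algebra_section_stalk ⟨hU.aff.fromSpec z, hzU⟩
      have hloc' := hU.aff.isLocalization_stalk ⟨hU.aff.fromSpec z, hzU⟩
      have h1 := IsLocalization.AtPrime.ringKrullDim_eq_height
        (hU.aff.primeIdealOf ⟨hU.aff.fromSpec z, hzU⟩).asIdeal (Y.presheaf.stalk (hU.aff.fromSpec z))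
      rw [h1, hpz]
      change ((p.height : ℕ∞) : WithBot ℕ∞) = 1
      rw [hht]
      rfl
    have hint := hfib _ hdim
    have key : ∀ c : Γ(X, W), (f.fiberι (hU.aff.fromSpec z)).app W c = 0 ↔
        c ∈ p.map (algebraMap Γ(Y, U) Γ(X, W)) := by
      intro c
      rw [fiberι_app_eq_zero_iff f hU.aff hzU hW e c, pt, hpz]
      rfl
    rw [← key, ← key]
    rw [← key, map_mul] at hbb'
    by_cases hne : Nonempty ((f.fiberι (hU.aff.fromSpec z)) ⁻¹ᵁ W)
    · have : IsDomain Γ(f.fiber (hU.aff.fromSpec z), (f.fiberι (hU.aff.fromSpec z)) ⁻¹ᵁ W) := inferInstance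
      exact mul_eq_zero.mp hbb'
    · left
      have hbot : (f.fiberι (hU.aff.fromSpec z)) ⁻¹ᵁ W = ⊥ := by
        rw [eq_bot_iff]
        intro w hw
        exact (hne ⟨⟨w, hw⟩⟩).elim
      have : Subsingleton Γ(f.fiber (hU.aff.fromSpec z), (f.fiberι (hU.aff.fromSpec z)) ⁻¹ᵁ W) := by
        rw [hbot]
        infer_instance
      exact Subsingleton.elim _ _
  have hqp : (hW.primeIdealOf ⟨x, hxW⟩).asIdeal.IsPrime := (hW.primeIdealOf ⟨x, hxW⟩).isPrime
  obtain ⟨c, b, hc0, hbq, hcb⟩ := FlatDiv.exists_mul_eq hF g a' ha'0 hdiv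
    (hW.primeIdealOf ⟨x, hxW⟩).asIdeal
  have hxb : x ∈ X.basicOpen b := (notMem_pt_iff hW hxW b).mp hbq
  refine ⟨a, c, ha0, hc0, X.basicOpen b, (X.basicOpen_le b).trans e, ?_⟩
  obtain ⟨w, hw⟩ := (show IsUnit (ores (X.basicOpen_le b) b) from X.toRingedSpace.isUnit_res_basicOpen b)
  refine ⟨(↑w⁻¹ : Γ(X, X.basicOpen b)) • res L (X.basicOpen_le b) m, hxb,
    (hm.res (X.basicOpen_le b)).unit_smul w⁻¹.isUnit, ?_⟩
  have hr : (f.fiberι η).app W (sc f e a) • res _ (le_top : (f.fiberι η) ⁻¹ᵁ W ≤ ⊤) t =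
      (f.fiberι η).app W g • pullSec (f.fiberι η) m := by
    rw [htu, smul_smul]
    exact congrArg (· • pullSec (f.fiberι η) m) hag
  have hr' := congrArg (res _ ((f.fiberι η).preimage_mono (X.basicOpen_le b))) hr
  rw [res_smul, res_smul, res_res, res_pullSec, ← app_ores _ (X.basicOpen_le b),
    ← app_ores _ (X.basicOpen_le b), ores_sc] at hr'
  have hcw : ores (X.basicOpen_le b) g = sc f ((X.basicOpen_le b).trans e) c * (↑w⁻¹ : Γ(X, X.basicOpen b)) := by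
    have h1 : sc f ((X.basicOpen_le b).trans e) c = ores (X.basicOpen_le b) g * w := by
      rw [hw, ← map_mul, ← hcb, ← ores_sc f e (X.basicOpen_le b)]
      rfl
    rw [h1, mul_assoc, Units.mul_inv, mul_one]
  change _ • _ = _ • _
  rw [hr', hcw, map_mul, mul_smul, pullSec_smul]

/-- Opens meeting the irreducible fibre over a generization. -/
theorem exists_common [Flat f] {x x' : X} (hxx : f x = f x') {y₁ : Y} (hy : y₁ ⤳ f x')
    (hint : IsIntegral (f.fiber y₁)) {W W' : X.Opens} (hx : x ∈ W) (hx' : x' ∈ W') :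
    ∃ z, f z = y₁ ∧ z ∈ W ∧ z ∈ W' := by
  have hg : GeneralizingMap f := Flat.generalizingMap f
  obtain ⟨x₁, h1, hx1⟩ := hg (show y₁ ⤳ f x by rw [hxx]; exact hy)
  obtain ⟨x₂, h2, hx2⟩ := hg hy
  have hr : ∀ z : X, f z = y₁ → ∃ w, f.fiberι y₁ w = z := by
    intro z hz
    have : z ∈ Set.range (f.fiberι y₁) := by
      rw [f.range_fiberι]
      exact hz
    exact this
  obtain ⟨w₁, hw₁⟩ := hr x₁ hx1
  obtain ⟨w₂, hw₂⟩ := hr x₂ hx2
  obtain ⟨w, hw, hw'⟩ := nonempty_preirreducible_inter ((f.fiberι y₁) ⁻¹ᵁ W).2 ((f.fiberι y₁) ⁻¹ᵁ W').2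
    ⟨w₁, show f.fiberι y₁ w₁ ∈ W by rw [hw₁]; exact h1.mem_open W.2 hx⟩
    ⟨w₂, show f.fiberι y₁ w₂ ∈ W' by rw [hw₂]; exact h2.mem_open W'.2 hx'⟩
  refine ⟨f.fiberι y₁ w, ?_, hw, hw'⟩
  have : f.fiberι y₁ w ∈ Set.range (f.fiberι y₁) := ⟨w, rfl⟩
  rw [f.range_fiberι] at this
  exact this

theorem mem_basicOpen_sc {U : Y.Opens} {W : X.Opens} (e : W ≤ f ⁻¹ᵁ U) {x : X} (hx : x ∈ W) {a : Γ(Y, U)}
    (ha : f x ∈ Y.basicOpen a) : x ∈ X.basicOpen (sc f e a) := by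
  rw [Scheme.mem_basicOpen _ _ _ hx, germ_sc]
  exact ((Scheme.mem_basicOpen _ _ (f x) (e hx)).mp ha).map _

/-- The property only depends on the image of the point. -/
theorem Gen.of_eq [IsLocallyNoetherian X] [IsLocallyNoetherian Y] [Flat f] (hY : Pi1.IsNormalScheme Y)
    (hfib : ∀ y : Y, ringKrullDim (Y.presheaf.stalk y) = 1 → IsIntegral (f.fiber y))
    (hL : PicF.IsInvertible L) (ht : IsGen t) {U : Y.Opens} (hU : GP U η) (hUi : IsIntegrallyClosed Γ(Y, U))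
    {x x' : X} (hxx : f x = f x') {a b : Γ(Y, U)} (ha : a ≠ 0) (hb : b ≠ 0) (h : Gen t a b x) : Gen t a b x' := by
  have hdom := hU.dom
  have hxU : f x ∈ U := by
    obtain ⟨W, e, m, hx, -, -⟩ := h
    exact e hx
  have hx'U : f x' ∈ U := hxx ▸ hxU
  obtain ⟨a', b', ha', hb', h'⟩ := exists_gen hfib hL ht hU hUi hx'U
  let W : X.Opens := ⟨{z | Gen t a b z}, isOpen_gen a b⟩
  let W' : X.Opens := ⟨{z | Gen t a' b' z}, isOpen_gen a' b'⟩
  have hD1 : DvdAt (f x') (a * b') (a' * b) := by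
    refine dvdAt_of_codim_one hY hU.aff hx'U (germ_ne_zero hU hx'U (mul_ne_zero ha hb')) ?_
    intro y₁ _ hy₁ hdim
    obtain ⟨z, rfl, hz, hz'⟩ := exists_common hxx hy₁ (hfib _ hdim) (W := W) (W' := W') h h'
    exact Gen.dvdAt hU hz hz'
  have hD2 : DvdAt (f x') (a' * b) (a * b') := by
    refine dvdAt_of_codim_one hY hU.aff hx'U (germ_ne_zero hU hx'U (mul_ne_zero ha' hb)) ?_
    intro y₁ _ hy₁ hdim
    obtain ⟨z, rfl, hz, hz'⟩ := exists_common hxx hy₁ (hfib _ hdim) (W := W) (W' := W') h h'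
    exact Gen.dvdAt hU hz' hz
  obtain ⟨s, hs, r, hr⟩ := hD1
  obtain ⟨s', hs', r', hr'⟩ := hD2
  -- `r` is a unit at `f x'`
  have hrr : s * s' = r * r' := by
    have h1 : (a' * b) * (s * s') = (a' * b) * (r * r') := by
      calc (a' * b) * (s * s') = s' * (s * (a' * b)) := by ring
        _ = r * (s' * (a * b')) := by rw [hr]; ring
        _ = (a' * b) * (r * r') := by rw [hr']; ring
    exact mul_left_cancel₀ (mul_ne_zero ha' hb) h1
  have hrm : f x' ∈ Y.basicOpen r := by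
    rw [Scheme.mem_basicOpen _ _ _ hx'U] at hs hs' ⊢
    have h1 : IsUnit (Y.presheaf.germ U (f x') hx'U (r * r')) := by
      rw [← hrr, map_mul]
      exact hs.mul hs'
    rw [map_mul] at h1
    exact isUnit_of_mul_isUnit_left h1
  obtain ⟨W₁, e₁, m₁, hx₁, hm₁, hr₁⟩ := h'
  have hsr : f x' ∈ Y.basicOpen (s * r) := by
    rw [Scheme.basicOpen_mul]
    exact ⟨hs, hrm⟩
  have hxD : x' ∈ X.basicOpen (sc f e₁ (s * r)) := mem_basicOpen_sc e₁ hx₁ hsr
  set D := X.basicOpen (sc f e₁ (s * r)) with hD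
  have hDW : D ≤ W₁ := X.basicOpen_le _
  have hunit : IsUnit (sc f (hDW.trans e₁) (s * r)) := by
    rw [← ores_sc f e₁ hDW]
    exact X.toRingedSpace.isUnit_res_basicOpen _
  rw [map_mul] at hunit
  obtain ⟨us, hus⟩ := isUnit_of_mul_isUnit_left hunit
  obtain ⟨ur, hur⟩ := isUnit_of_mul_isUnit_right hunit
  have hrD := (hr₁.res hDW).mul a
  refine ⟨D, hDW.trans e₁, ((us * ur⁻¹ : Γ(X, D)ˣ) : Γ(X, D)) • res L hDW m₁, hxD,
    (hm₁.res hDW).unit_smul (us * ur⁻¹).isUnit, ?_⟩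
  apply Rel.of_mul hU ha'
  rw [mul_comm a' a]
  refine hrD.smul (v := ((us⁻¹ * ur : Γ(X, D)ˣ) : Γ(X, D))) ?_ ?_
  · have hone : (us⁻¹ * ur : Γ(X, D)ˣ) * (us * ur⁻¹) = 1 := by
      rw [mul_mul_mul_comm, inv_mul_cancel, mul_inv_cancel, one_mul]
    rw [smul_smul, ← Units.val_mul, hone, Units.val_one, one_smul]
  · have h1 : sc f (hDW.trans e₁) (a' * b) * us = sc f (hDW.trans e₁) (a * b') * ur := by
      rw [hus, hur, ← map_mul, ← map_mul]
      congr 1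
      rw [mul_comm _ s, hr]
    have h2 : (us : Γ(X, D)) * (us⁻¹ : Γ(X, D)ˣ) = 1 := Units.mul_inv us
    rw [Units.val_mul]
    calc _ = (sc f (hDW.trans e₁) (a * b') * ur) * (us⁻¹ : Γ(X, D)ˣ) := by ring
      _ = sc f (hDW.trans e₁) (a' * b) * (us * (us⁻¹ : Γ(X, D)ˣ)) := by rw [← h1]; ring
      _ = _ := by rw [h2, mul_one]

end Groth.Agent.Ega4late.H534.Points
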